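import Groth.Agent.Synt29.DerivDim
import Mathlib

/-!
# Regularity from free differentials, trivial residue field
-/

universe u v

open IsLocalRing TensorProduct Groth.Agent.Synt29.DerivDim

namespace Groth.Agent.H1Fields

/-- A local algebra over a field of characteristic zero with trivial residue field and free module
of differentials of rank `n` is regular of dimension `n`. -/
theorem isRegularLocalRing_of_free {k : Type u} {R : Type u} [Field k] [CharZero k] [CommRing R] [Algebra k R]
    [IsLocalRing R] [IsNoetherianRing R] (hres : Function.Surjective (algebraMap k (ResidueField R))) (n : ℕ)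
    (eΩ : Ω[R⁄k] ≃ₗ[R] (Fin n → R)) : IsRegularLocalRing R ∧ ringKrullDim R = n := by
  haveI : Module.Free R (Ω[R⁄k]) := Module.Free.of_equiv eΩ.symm
  classical
  let m := maximalIdeal R
  have : Algebra.FormallySmooth k (ResidueField R) :=
    Algebra.FormallySmooth.of_equiv
      (AlgEquiv.ofBijective (Algebra.ofId k (ResidueField R)) ⟨(algebraMap k (ResidueField R)).injective, hres⟩)
  obtain ⟨S, hScard, hSspan⟩ := Submodule.FG.exists_span_finset_card_eq_spanFinrank (maximalIdeal R).fg_of_isNoetherianRing
  let r := (maximalIdeal R).spanFinrank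
  let e : Fin r ≃ S := (Finset.equivFinOfCardEq hScard).symm
  let x : Fin r → R := fun i => (e i : R)
  have hx : ∀ i, x i ∈ m := fun i => by
    change (e i : R) ∈ maximalIdeal R
    rw [← hSspan]
    exact Submodule.subset_span (Finset.mem_coe.2 (e i).2)
  have hrange : Submodule.span R (Set.range x) = m := by
    rw [show Set.range x = (S : Set R) from by
      ext y
      exact ⟨fun ⟨i, h⟩ => h ▸ (e i).2, fun hy => ⟨e.symm ⟨y, hy⟩, by simp [x]⟩⟩]
    exact hSspan
  -- the classes of the generators form a basis of the cotangent space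
  let c : Fin r → CotangentSpace R := fun i => m.toCotangent ⟨x i, hx i⟩
  have hcspan : Submodule.span (ResidueField R) (Set.range c) = ⊤ := by
    refine eq_top_iff.2 fun z _ => ?_
    obtain ⟨⟨y, hy⟩, rfl⟩ := m.toCotangent_surjective z
    have hy' : y ∈ Submodule.span R (Set.range x) := hrange.ge hy
    obtain ⟨a, ha⟩ := (Submodule.mem_span_range_iff_exists_fun R).1 hy'
    have : (⟨y, hy⟩ : m) = ∑ i, a i • (⟨x i, hx i⟩ : m) := Subtype.ext (by simp [← ha])
    rw [this, map_sum]
    refine Submodule.sum_mem _ fun i _ => ?_
    rw [map_smul, ← IsScalarTower.algebraMap_smul (ResidueField R) (a i)]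
    exact Submodule.smul_mem _ _ (Submodule.subset_span ⟨i, rfl⟩)
  have hcli : LinearIndependent (ResidueField R) c :=
    linearIndependent_of_top_le_span_of_card_eq_finrank hcspan.ge (by
      rw [Fintype.card_fin]
      exact spanFinrank_maximalIdeal_eq_finrank_cotangentSpace (R := R))
  let b : Module.Basis (Fin r) (ResidueField R) (CotangentSpace R) := Module.Basis.mk hcli hcspan.ge
  -- split the conormal sequence
  have hker : RingHom.ker (algebraMap R (ResidueField R)) = m := ker_residue
  obtain ⟨g, hg⟩ : ∃ g, (IsScalarTower.toAlgHom k R (ResidueField R)).kerSquareLift.comp g =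
      AlgHom.id k (ResidueField R) := by
    have hsurj : Function.Surjective (IsScalarTower.toAlgHom k R (ResidueField R)).kerSquareLift := fun y => by
      obtain ⟨z, rfl⟩ := residue_surjective y
      exact ⟨Ideal.Quotient.mk _ z, rfl⟩
    have hnil : IsNilpotent (RingHom.ker
        (IsScalarTower.toAlgHom k R (ResidueField R)).kerSquareLift.toRingHom) := by
      rw [AlgHom.ker_kerSquareLift]
      exact ⟨2, Ideal.cotangentIdeal_square _⟩
    exact ⟨Algebra.FormallySmooth.liftOfSurjective (AlgHom.id k _) _ hsurj hnil,
      Algebra.FormallySmooth.comp_liftOfSurjective _ _ hsurj hnil⟩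
  obtain ⟨l, hl⟩ := (retractionKerCotangentToTensorEquivSection (R := k) (P := R)
    (S := ResidueField R) residue_surjective).symm ⟨g, hg⟩
  let T : (RingHom.ker (algebraMap R (ResidueField R))).Cotangent →ₗ[R] CotangentSpace R :=
    Ideal.mapCotangent _ m (AlgHom.id R R) (by rw [hker]; exact le_of_eq rfl)
  let φ : Fin r → (Ω[R⁄k] →ₗ[R] ResidueField R) := fun i =>
    (b.coord i).restrictScalars R ∘ₗ T ∘ₗ l ∘ₗ TensorProduct.mk R (ResidueField R) (Ω[R⁄k]) 1
  have hφ : ∀ i j, φ i (KaehlerDifferential.D k R (x j)) = if i = j then 1 else 0 := by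
    intro i j
    have hj : x j ∈ RingHom.ker (algebraMap R (ResidueField R)) := hker.symm ▸ hx j
    have h1 := LinearMap.congr_fun hl (Ideal.toCotangent _ ⟨x j, hj⟩)
    rw [LinearMap.comp_apply, KaehlerDifferential.kerCotangentToTensor_toCotangent, LinearMap.id_apply] at h1
    have h2 : φ i (KaehlerDifferential.D k R (x j)) = b.coord i (c j) := by
      simp only [φ, LinearMap.comp_apply, TensorProduct.mk_apply, h1]
      rfl
    rw [h2, show c j = b j from (Module.Basis.mk_apply hcli hcspan.ge j).symm, Module.Basis.coord_apply,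
      Module.Basis.repr_self, Finsupp.single_apply]
    exact if_congr eq_comm rfl rfl
  choose ψ hψ using fun i => Module.projective_lifting_property (Algebra.linearMap R (ResidueField R)) (φ i)
    residue_surjective
  let M : Matrix (Fin r) (Fin r) R := Matrix.of fun i j => ψ i (KaehlerDifferential.D k R (x j))
  have hM : IsUnit M := by
    rw [Matrix.isUnit_iff_isUnit_det]
    refine isUnit_of_map_unit (residue R) _ ?_
    rw [RingHom.map_det, show (residue R).mapMatrix M = 1 from ?_, Matrix.det_one]
    · exact isUnit_one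
    ext i j
    rw [RingHom.mapMatrix_apply, Matrix.map_apply, Matrix.one_apply, ← hφ i j, ← hψ i]
    rfl
  obtain ⟨u, hu⟩ := hM
  let Dd : Fin r → Derivation k R R := fun i =>
    (∑ t, (↑u⁻¹ : Matrix (Fin r) (Fin r) R) i t • ψ t).compDer (KaehlerDifferential.D k R)
  have hDd : ∀ i j, Dd i (x j) = if i = j then 1 else 0 := by
    intro i j
    have h := congrFun (congrFun u.inv_mul i) j
    rw [Matrix.one_apply, hu, Matrix.mul_apply] at h
    rw [← h]
    simp [Dd, M]
  have hge := le_ringKrullDim r x hx Dd hDd
  haveI hreg : IsRegularLocalRing R := IsRegularLocalRing.of_spanFinrank_maximalIdeal_le R hge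
  refine ⟨hreg, ?_⟩
  haveI : Module.Finite R Ω[R⁄k] := Module.Finite.equiv eΩ.symm
  have hn : Module.finrank (ResidueField R) (ResidueField R ⊗[R] Ω[R⁄k]) = n := by
    rw [Module.finrank_baseChange, eΩ.finrank_eq, Module.finrank_fin_fun]
  have hsur : Function.Surjective (KaehlerDifferential.kerCotangentToTensor k R (ResidueField R)) := by
    intro z
    haveI : Subsingleton Ω[ResidueField R⁄k] :=
      KaehlerDifferential.subsingleton_of_surjective k (ResidueField R) hres
    have := Subsingleton.elim (KaehlerDifferential.mapBaseChange k R (ResidueField R) z) 0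
    exact ((KaehlerDifferential.exact_kerCotangentToTensor_mapBaseChange k R (ResidueField R) residue_surjective) z).mp this
  have hbij : Function.Bijective (KaehlerDifferential.kerCotangentToTensor k R (ResidueField R)) :=
    ⟨fun y y' h => by
      have h1 := congrArg l h
      rwa [← LinearMap.comp_apply, ← LinearMap.comp_apply, hl] at h1, hsur⟩
  let e0 : CotangentSpace R ≃ₗ[R] (RingHom.ker (algebraMap R (ResidueField R))).Cotangent :=
    (LinearEquiv.ofBijective T ⟨fun y y' h => by
      obtain ⟨⟨y, hy⟩, rfl⟩ := Ideal.toCotangent_surjective _ y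
      obtain ⟨⟨y', hy'⟩, rfl⟩ := Ideal.toCotangent_surjective _ y'
      rw [Ideal.toCotangent_eq]
      change m.toCotangent _ = m.toCotangent _ at h
      rw [Ideal.toCotangent_eq] at h
      exact SetLike.le_def.mp (congrArg (· ^ 2) hker).ge h, fun y => by
      obtain ⟨⟨y, hy⟩, rfl⟩ := Ideal.toCotangent_surjective _ y
      exact ⟨Ideal.toCotangent _ ⟨y, hker.symm ▸ hy⟩, rfl⟩⟩).symm
  let e1 := (e0.trans (LinearEquiv.ofBijective _ hbij)).extendScalarsOfSurjective (R := R) (S := ResidueField R) residue_surjective
  have hr : r = n := by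
    rw [← hn, ← e1.finrank_eq]
    exact spanFinrank_maximalIdeal_eq_finrank_cotangentSpace (R := R)
  rw [← IsRegularLocalRing.spanFinrank_maximalIdeal]
  exact_mod_cast hr

end Groth.Agent.H1Fields
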