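import Groth.Agent.S9602
import Groth.Agent.FormalFib6.Cplt
import Groth.Agent.MorLib.UnramLocus
import Mathlib

/-!
# The dimension of the completion of a module over a semi-local ring
-/

set_option autoImplicit false
universe u

namespace Groth.Agent.H1Fields

open TensorProduct

theorem ringKrullDim_eq_of_flat_trivial_fibres {D E : Type u} [CommRing D] [CommRing E] [IsNoetherianRing D]
    [IsNoetherianRing E] [Algebra D E] [Module.Flat D E]
    (h1 : ∀ P : Ideal E, P.IsMaximal → (P.comap (algebraMap D E)).IsMaximal ∧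
      (P.comap (algebraMap D E)).map (algebraMap D E) = P)
    (h2 : ∀ p : Ideal D, p.IsMaximal → ∃ P : Ideal E, P.IsMaximal ∧ P.comap (algebraMap D E) = p) :
    ringKrullDim E = ringKrullDim D := by
  have key : ∀ P : Ideal E, P.IsMaximal → P.height = (P.comap (algebraMap D E)).height := fun P hP => by
    obtain ⟨hp, hmap⟩ := h1 P hP
    haveI : P.LiesOver (P.comap (algebraMap D E)) := ⟨rfl⟩
    rw [Ideal.height_eq_height_add_of_liesOver_of_hasGoingDown (P.comap (algebraMap D E)) P, hmap,
      Ideal.map_quotient_self]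
    haveI : Nontrivial (E ⧸ P) := Ideal.Quotient.nontrivial_iff.mpr hP.ne_top
    haveI : IsDomain (E ⧸ P) := Ideal.Quotient.isDomain P
    rw [Ideal.height_bot, add_zero]
  refine le_antisymm ((ringKrullDim_le_iff_isMaximal_height_le _).mpr fun P hP => ?_)
    ((ringKrullDim_le_iff_isMaximal_height_le _).mpr fun p hp => ?_)
  · rw [key P hP]
    exact Ideal.height_le_ringKrullDim_of_ne_top (h1 P hP).1.ne_top
  · obtain ⟨P, hP, rfl⟩ := h2 p hp
    rw [← key P hP]
    exact Ideal.height_le_ringKrullDim_of_ne_top hP.ne_top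

theorem supportDim_tensor_completion (A : Type u) [CommRing A] [IsNoetherianRing A] (r : Ideal A)
    (hr : ∀ p : Ideal A, p.IsMaximal → r ≤ p) (M : Type u) [AddCommGroup M] [Module A M] [Module.Finite A M] :
    Module.supportDim (AdicCompletion r A) (AdicCompletion r A ⊗[A] M) = Module.supportDim A M := by
  let C := AdicCompletion r A
  let J := Module.annihilator A M
  haveI : IsNoetherianRing C := FormalFib6.isNoetherianRing_adicCompletion A r
  haveI : Module.Flat A C := AdicCompletion.flat_of_isNoetherian r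
  have hsupp : Module.support C (C ⊗[A] M) = PrimeSpectrum.zeroLocus (J.map (algebraMap A C) : Set C) := by
    ext q
    rw [MorLib.UnrLocus.support_baseChange_iff, Module.mem_support_iff_of_finite, PrimeSpectrum.mem_zeroLocus,
      SetLike.coe_subset_coe, Ideal.map_le_iff_le_comap]
    rfl
  rw [Module.supportDim, hsupp, ← ringKrullDim_quotient, Module.supportDim_eq_ringKrullDim_quotient_annihilator]
  haveI : Module.Flat (A ⧸ J) (C ⧸ J.map (algebraMap A C)) :=
    Module.Flat.of_linearEquiv (((TensorProduct.quotTensorEquivQuotSMul C J).trans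
      ((Submodule.quotEquivOfEq _ _ (Ideal.smul_top_eq_map J)).trans
        (Submodule.Quotient.restrictScalarsEquiv A _))).extendScalarsOfSurjective Ideal.Quotient.mk_surjective).symm
  have hjac := (S9602.result (R := A) r).2
  have hev : ∀ x : C, ∃ a : A, x - algebraMap A C a ∈ r.map (algebraMap A C) := fun x => by
    obtain ⟨a, ha⟩ := Ideal.Quotient.mk_surjective (AdicCompletion.evalOneₐ r x)
    refine ⟨a, ?_⟩
    rw [← AdicCompletion.ker_evalOneₐ_eq_map r r.fg_of_isNoetherianRing, RingHom.mem_ker]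
    show AdicCompletion.evalOneₐ r (x - algebraMap A C a) = 0
    rw [map_sub, AlgHom.commutes, ← ha]
    exact sub_self _
  have hfac : algebraMap (A ⧸ J) (C ⧸ J.map (algebraMap A C)) ∘ Ideal.Quotient.mk J =
      Ideal.Quotient.mk (J.map (algebraMap A C)) ∘ algebraMap A C := rfl
  refine ringKrullDim_eq_of_flat_trivial_fibres (fun P hP => ?_) fun p hp => ?_
  · have hQ : (P.comap (Ideal.Quotient.mk (J.map (algebraMap A C)))).IsMaximal :=
      Ideal.comap_isMaximal_of_surjective _ Ideal.Quotient.mk_surjective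
    have hrQ : r.map (algebraMap A C) ≤ P.comap (Ideal.Quotient.mk (J.map (algebraMap A C))) := hjac.2.trans (sInf_le ⟨bot_le, hQ⟩)
    have hsurj : ∀ y : C ⧸ J.map (algebraMap A C), ∃ a : A ⧸ J, y - algebraMap _ _ a ∈ P := fun y => by
      obtain ⟨x, rfl⟩ := Ideal.Quotient.mk_surjective y
      obtain ⟨a, ha⟩ := hev x
      refine ⟨Ideal.Quotient.mk J a, ?_⟩
      exact hrQ ha
    have hm : (P.comap (algebraMap (A ⧸ J) (C ⧸ J.map (algebraMap A C)))).IsMaximal := by
      let φ := (Ideal.Quotient.mk P).comp (algebraMap (A ⧸ J) (C ⧸ J.map (algebraMap A C)))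
      have hφ : Function.Surjective φ := fun z => by
        obtain ⟨y, rfl⟩ := Ideal.Quotient.mk_surjective z
        obtain ⟨a, ha⟩ := hsurj y
        exact ⟨a, (Ideal.Quotient.eq.mpr ha).symm⟩
      letI := Ideal.Quotient.field P
      have hker : RingHom.ker φ = P.comap (algebraMap (A ⧸ J) (C ⧸ J.map (algebraMap A C))) := by
        rw [← RingHom.comap_ker, Ideal.mk_ker]
      exact hker ▸ RingHom.ker_isMaximal_of_surjective φ hφ
    refine ⟨hm, le_antisymm (Ideal.map_le_iff_le_comap.mpr le_rfl) fun y hy => ?_⟩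
    obtain ⟨x, rfl⟩ := Ideal.Quotient.mk_surjective y
    obtain ⟨a, ha⟩ := hev x
    have hsplit : Ideal.Quotient.mk (J.map (algebraMap A C)) x =
        Ideal.Quotient.mk (J.map (algebraMap A C)) (x - algebraMap A C a) + algebraMap (A ⧸ J) _ (Ideal.Quotient.mk J a) := by
      rw [map_sub, show algebraMap (A ⧸ J) (C ⧸ J.map (algebraMap A C)) (Ideal.Quotient.mk J a) =
        Ideal.Quotient.mk (J.map (algebraMap A C)) (algebraMap A C a) from rfl, sub_add_cancel]
    rw [hsplit]
    refine add_mem ?_ (Ideal.mem_map_of_mem _ ?_)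
    · have h3 : (r.map (algebraMap A C)).map (Ideal.Quotient.mk (J.map (algebraMap A C))) ≤
          (P.comap (algebraMap (A ⧸ J) (C ⧸ J.map (algebraMap A C)))).map (algebraMap (A ⧸ J) _) := by
        rw [Ideal.map_map, Ideal.map_le_iff_le_comap]
        intro t ht
        refine Ideal.mem_comap.mpr ?_
        show algebraMap (A ⧸ J) (C ⧸ J.map (algebraMap A C)) (Ideal.Quotient.mk J t) ∈ _
        refine Ideal.mem_map_of_mem _ ?_
        exact hrQ (Ideal.mem_map_of_mem _ ht)
      exact h3 (Ideal.mem_map_of_mem _ ha)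
    · show algebraMap (A ⧸ J) (C ⧸ J.map (algebraMap A C)) (Ideal.Quotient.mk J a) ∈ P
      have h4 := hrQ ha
      have h5 : Ideal.Quotient.mk (J.map (algebraMap A C)) (x - algebraMap A C a) ∈ P := h4
      rw [map_sub] at h5
      exact (Submodule.sub_mem_iff_right P hy).mp h5
  · let q := p.comap (Ideal.Quotient.mk J)
    have hq : q.IsMaximal := Ideal.comap_isMaximal_of_surjective _ Ideal.Quotient.mk_surjective
    have hJq : J ≤ q := fun x hx => by
      show Ideal.Quotient.mk J x ∈ p
      rw [Ideal.Quotient.eq_zero_iff_mem.mpr hx]; exact p.zero_mem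
    letI := Ideal.Quotient.field q
    let ψ : C →+* A ⧸ q := (Ideal.Quotient.factor (hr q hq)).comp (AdicCompletion.evalOneₐ r).toRingHom
    have hψA : ∀ a, ψ (algebraMap A C a) = Ideal.Quotient.mk q a := fun a => by
      show Ideal.Quotient.factor (hr q hq) (AdicCompletion.evalOneₐ r (algebraMap A C a)) = _
      rw [AlgHom.commutes]
      rfl
    let ψ' : C ⧸ J.map (algebraMap A C) →+* A ⧸ q := Ideal.Quotient.lift _ ψ fun x hx => by
      have : J.map (algebraMap A C) ≤ RingHom.ker ψ := Ideal.map_le_iff_le_comap.mpr fun a ha => by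
        show ψ (algebraMap A C a) = 0
        rw [hψA, Ideal.Quotient.eq_zero_iff_mem]; exact hJq ha
      exact this hx
    have hψ' : Function.Surjective ψ' := fun z => by
      obtain ⟨a, rfl⟩ := Ideal.Quotient.mk_surjective z
      exact ⟨Ideal.Quotient.mk _ (algebraMap A C a), hψA a⟩
    refine ⟨RingHom.ker ψ', RingHom.ker_isMaximal_of_surjective ψ' hψ', ?_⟩
    ext z
    obtain ⟨a, rfl⟩ := Ideal.Quotient.mk_surjective z
    show ψ (algebraMap A C a) = 0 ↔ _
    rw [hψA, Ideal.Quotient.eq_zero_iff_mem]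
    rfl

end Groth.Agent.H1Fields
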