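import Groth.Agent.RegFS6.PrimeField
import Groth.Agent.EGA41Lib.FieldFS
import Groth.Agent.CoeffField.Smooth
import Groth.Agent.PBasisLib.Extend
import Mathlib

/-!
# Separability of a field extension through absolute differentials
-/

set_option autoImplicit false
universe u

namespace Groth.Agent.H1Fields

open TensorProduct

theorem lTensor_self_injective_iff {K : Type u} [CommRing K] {M N : Type u} [AddCommGroup M] [AddCommGroup N]
    [Module K M] [Module K N] (f : M →ₗ[K] N) : Function.Injective (f.lTensor K) ↔ Function.Injective f := by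
  have h : (TensorProduct.lid K _).toLinearMap ∘ₗ f.lTensor K = f ∘ₗ (TensorProduct.lid K _).toLinearMap := by
    ext x; simp
  have h' : ⇑(TensorProduct.lid K _) ∘ ⇑(f.lTensor K) = ⇑f ∘ ⇑(TensorProduct.lid K _) := congrArg DFunLike.coe h
  rw [← EquivLike.comp_injective _ (TensorProduct.lid K _), h', EquivLike.injective_comp]

/-- `K/k` is separable iff `K ⊗ Ω_k → Ω_K` is injective. -/
theorem geomRed_iff_injective {k K : Type u} [Field k] [Field K] [Algebra k K] :
    Algebra.IsGeometricallyReduced k K ↔ Function.Injective (KaehlerDifferential.mapBaseChange ℤ k K) := by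
  obtain ⟨P, _, _, hP, _⟩ := RegFS6.exists_primeField k
  letI : Algebra P K := ((algebraMap k K).comp (algebraMap P k)).toAlgebra
  haveI : IsScalarTower P k K := IsScalarTower.of_algebraMap_eq fun _ => rfl
  haveI : Algebra.FormallySmooth P K := CoeffField.formallySmooth_of_perfectField P K
  haveI : IsScalarTower ℤ P k := IsScalarTower.of_algebraMap_eq fun z => by simp
  haveI : IsScalarTower ℤ P K := IsScalarTower.of_algebraMap_eq fun z => by simp
  have key := RegFS6.lTensor_mapBaseChange_injective_iff ℤ P k K K
  rw [lTensor_self_injective_iff, lTensor_self_injective_iff] at key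
  rw [key]
  have hex := Algebra.H1Cotangent.exact_δ_mapBaseChange P k K
  have hδ : Function.Injective (Algebra.H1Cotangent.δ P k K) :=
    (injective_iff_map_eq_zero _).mpr fun x hx => by
      obtain ⟨y, rfl⟩ := (Algebra.H1Cotangent.exact_map_δ P k K x).mp hx
      rw [Subsingleton.elim y 0, map_zero]
  constructor
  · intro h
    haveI : Algebra.FormallySmooth k K := EGA41Lib.FieldFS.formallySmooth_of_isGeometricallyReduced k K
    refine (injective_iff_map_eq_zero _).mpr fun x hx => ?_
    obtain ⟨y, rfl⟩ := (hex x).mp hx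
    rw [Subsingleton.elim y 0, map_zero]
  · intro h
    haveI : Subsingleton (Algebra.H1Cotangent k K) := ⟨fun a b => hδ (h (by
      rw [hex.apply_apply_eq_zero, hex.apply_apply_eq_zero]))⟩
    haveI : Algebra.FormallySmooth k K := ⟨inferInstance, inferInstance⟩
    exact EGA41Lib.FieldFS.isGeometricallyReduced_of_formallySmooth k K

/-- `K/k` is separable iff derivations of `k` into `K` extend. -/
theorem geomRed_iff_extends {k K : Type u} [Field k] [Field K] [Algebra k K] :
    Algebra.IsGeometricallyReduced k K ↔
      ∀ D : Derivation ℤ k K, ∃ D' : Derivation ℤ K K, ∀ a : k, D' (algebraMap k K a) = D a := by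
  rw [geomRed_iff_injective]
  refine ⟨fun h D => ?_, fun h => PBasisLib.injective_mapBaseChange_of_extends h⟩
  obtain ⟨r, hr⟩ := LinearMap.exists_leftInverse_of_injective (KaehlerDifferential.mapBaseChange ℤ k K)
    (LinearMap.ker_eq_bot.mpr h)
  let φ : K ⊗[k] Ω[k⁄ℤ] →ₗ[K] K := (D.liftKaehlerDifferential).liftBaseChange K
  refine ⟨(φ ∘ₗ r).compDer (KaehlerDifferential.D ℤ K), fun a => ?_⟩
  have h1 : KaehlerDifferential.D ℤ K (algebraMap k K a) =
      KaehlerDifferential.mapBaseChange ℤ k K (1 ⊗ₜ KaehlerDifferential.D ℤ k a) := by simp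
  show φ (r (KaehlerDifferential.D ℤ K (algebraMap k K a))) = D a
  rw [h1, ← LinearMap.comp_apply r, hr]
  simp [φ]

end Groth.Agent.H1Fields
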