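import Groth.Agent.H1Fields.GeomRed
import Mathlib

/-!
# Separability from extending derivations of the base field
-/

set_option autoImplicit false
universe u

namespace Groth.Agent.H1Fields

open TensorProduct

/-- It suffices to extend the derivations of `k` into itself. -/
theorem geomRed_of_extends_self {k K : Type u} [Field k] [Field K] [Algebra k K]
    (h : ∀ D : Derivation ℤ k k, ∃ D' : Derivation ℤ K K, ∀ a : k, D' (algebraMap k K a) = algebraMap k K (D a)) :
    Algebra.IsGeometricallyReduced k K := by
  rw [geomRed_iff_injective]
  refine (injective_iff_map_eq_zero _).mpr fun z hz => ?_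
  let b := Module.Basis.ofVectorSpace k (Ω[k⁄ℤ])
  let bK := b.baseChange K
  refine bK.forall_coord_eq_zero_iff.mp fun i => ?_
  obtain ⟨D', hD'⟩ := h ((b.coord i).compDer (KaehlerDifferential.D ℤ k))
  have key : D'.liftKaehlerDifferential.comp (KaehlerDifferential.mapBaseChange ℤ k K) = bK.coord i := by
    refine TensorProduct.AlgebraTensorModule.ext fun l ω => ?_
    have hω : ω ∈ Submodule.span k (Set.range (KaehlerDifferential.D ℤ k)) := by
      rw [KaehlerDifferential.span_range_derivation]; trivial
    induction hω using Submodule.span_induction with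
    | mem y hy =>
      obtain ⟨c, rfl⟩ := hy
      simp [bK, hD', Module.Basis.baseChange_repr_tmul, Algebra.smul_def, mul_comm]
    | zero => simp
    | add s t _ _ hs ht => rw [tmul_add, map_add, map_add, hs, ht]
    | smul r s _ hs => rw [tmul_smul, LinearMap.map_smul_of_tower, LinearMap.map_smul_of_tower, hs]
  rw [← key, LinearMap.comp_apply, hz, map_zero]

end Groth.Agent.H1Fields
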