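import Mathlib

/-!
# Finite purely inseparable extensions as towers of root extractions
-/

set_option autoImplicit false
universe u v

namespace Groth.Agent.H1Fields

open IntermediateField Polynomial

variable {F : Type u} {E : Type v} [Field F] [Field E] [Algebra F E] (p : ℕ) [Fact p.Prime] [CharP F p]
  [FiniteDimensional F E]

theorem finrank_adjoin_root (G : IntermediateField F E) {a : E} (ha : a ∉ G) (hap : a ^ p ∈ G) :
    Module.finrank F (G⟮a⟯.restrictScalars F) = p * Module.finrank F G := by
  have hp : p.Prime := Fact.out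
  haveI : CharP E p := charP_of_injective_algebraMap (algebraMap F E).injective p
  have hirr : Irreducible (X ^ p - C (⟨a ^ p, hap⟩ : G)) := X_pow_sub_C_irreducible_of_prime hp fun b hb => by
    have h1 : (b : E) ^ p = a ^ p := congrArg Subtype.val hb
    exact ha (frobenius_inj E p (by simpa [frobenius_def] using h1) ▸ b.2)
  have hmin : minpoly G a = X ^ p - C (⟨a ^ p, hap⟩ : G) := by
    refine (minpoly.eq_of_irreducible_of_monic hirr ?_ (monic_X_pow_sub_C _ hp.ne_zero)).symm
    simp [IntermediateField.algebraMap_apply]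
  have h2 : Module.finrank G G⟮a⟯ = p := by
    rw [adjoin.finrank (IsIntegral.of_finite G a), hmin, natDegree_X_pow_sub_C]
  show Module.finrank F G⟮a⟯ = _
  rw [← Module.finrank_mul_finrank F G G⟮a⟯, h2, mul_comm]

theorem exists_tower [IsPurelyInseparable F E] : ∀ (d : ℕ) (G : IntermediateField F E),
    Module.finrank F E - Module.finrank F G ≤ d →
    ∃ (n : ℕ) (a : Fin n → E), adjoin F ((G : Set E) ∪ Set.range a) = ⊤ ∧
      (∀ i : Fin n, a i ^ p ∈ adjoin F ((G : Set E) ∪ a '' {j | j < i}) ∧
        a i ∉ adjoin F ((G : Set E) ∪ a '' {j | j < i})) ∧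
      Module.finrank F E = p ^ n * Module.finrank F G := by
  classical
  have hp : p.Prime := Fact.out
  have hG0 : ∀ G : IntermediateField F E, adjoin F ((G : Set E) ∪ Set.range (Fin.elim0 : Fin 0 → E)) = G :=
    fun G => by simp [Set.range_eq_empty]
  have hlt : ∀ G : IntermediateField F E, G ≠ ⊤ → Module.finrank F G < Module.finrank F E := fun G hG =>
    lt_of_le_of_ne (Submodule.finrank_le G.toSubalgebra.toSubmodule) fun h => hG (IntermediateField.eq_of_le_of_finrank_eq
      le_top (h.trans IntermediateField.finrank_top'.symm))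
  intro d
  induction d with
  | zero =>
    intro G hd
    have hG : G = ⊤ := by_contra fun h => by have := hlt G h; omega
    subst hG
    exact ⟨0, Fin.elim0, hG0 ⊤, fun i => i.elim0, by simp [IntermediateField.finrank_top']⟩
  | succ d ih =>
    intro G hd
    by_cases hG : G = ⊤
    · subst hG
      exact ⟨0, Fin.elim0, hG0 ⊤, fun i => i.elim0, by simp [IntermediateField.finrank_top']⟩
    obtain ⟨x, hx⟩ : ∃ x, x ∉ G := by
      by_contra! h
      exact hG (eq_top_iff.mpr fun y _ => h y)
    haveI : ExpChar F p := ExpChar.prime hp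
    obtain ⟨m, hm⟩ : ∃ m : ℕ, x ^ p ^ m ∈ G := by
      obtain ⟨m, y, hy⟩ := IsPurelyInseparable.pow_mem F p x
      exact ⟨m, hy ▸ G.algebraMap_mem y⟩
    have hne : Nat.find (⟨m, hm⟩ : ∃ m, x ^ p ^ m ∈ G) ≠ 0 := fun h0 => by
      have := Nat.find_spec (⟨m, hm⟩ : ∃ m, x ^ p ^ m ∈ G)
      rw [h0] at this
      simp at this
      exact hx this
    obtain ⟨j, hj⟩ := Nat.exists_eq_succ_of_ne_zero hne
    set a := x ^ p ^ j
    have ha : a ∉ G := Nat.find_min (⟨m, hm⟩ : ∃ m, x ^ p ^ m ∈ G) (by omega)
    have hap : a ^ p ∈ G := by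
      rw [← pow_mul, ← pow_succ, ← Nat.succ_eq_add_one, ← hj]
      exact Nat.find_spec (⟨m, hm⟩ : ∃ m, x ^ p ^ m ∈ G)
    set G' := (G⟮a⟯).restrictScalars F
    have hrank : Module.finrank F G' = p * Module.finrank F G := finrank_adjoin_root p G ha hap
    have hG' : G' = adjoin F ((G : Set E) ∪ {a}) := restrictScalars_adjoin F G {a}
    have hpos : 0 < Module.finrank F G := Module.finrank_pos
    obtain ⟨n, b, hb1, hb2, hb3⟩ := ih G' (by
      have h2 : 2 * Module.finrank F G ≤ p * Module.finrank F G := Nat.mul_le_mul_right _ hp.two_le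
      rw [hrank]; omega)
    have hset : ∀ S : Set E, adjoin F ((G' : Set E) ∪ S) = adjoin F ((G : Set E) ∪ ({a} ∪ S)) := fun S => by
      rw [hG', ← Set.union_assoc]
      refine le_antisymm (adjoin_le_iff.mpr (Set.union_subset ?_ ?_)) (adjoin.mono F _ _ ?_)
      · exact adjoin.mono F _ _ Set.subset_union_left
      · exact Set.subset_union_right.trans (subset_adjoin F _)
      · exact Set.union_subset_union_left S (subset_adjoin F _)
    refine ⟨n + 1, Fin.cons a b, ?_, fun i => ?_, by rw [hb3, hrank, pow_succ]; ring⟩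
    · rw [Fin.range_cons, Set.insert_eq, ← hset]
      exact hb1
    · refine Fin.cases ?_ (fun i => ?_) i
      · have h0 : (Fin.cons a b : Fin (n + 1) → E) '' {j | j < 0} = ∅ := by simp
        rw [h0, Set.union_empty, adjoin_self, Fin.cons_zero]
        exact ⟨hap, ha⟩
      · have h1 : (Fin.cons a b : Fin (n + 1) → E) '' {j | j < i.succ} = {a} ∪ b '' {j | j < i} := by
          ext z
          constructor
          · rintro ⟨j, hj, rfl⟩
            induction j using Fin.cases with
            | zero => exact Or.inl rfl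
            | succ j => exact Or.inr ⟨j, Fin.succ_lt_succ_iff.mp hj, by simp⟩
          · rintro (rfl | ⟨j, hj, rfl⟩)
            · exact ⟨0, Fin.succ_pos i, rfl⟩
            · exact ⟨j.succ, Fin.succ_lt_succ_iff.mpr hj, by simp⟩
        rw [h1, Fin.cons_succ, ← hset]
        exact hb2 i

end Groth.Agent.H1Fields
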