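import Mathlib

/-!
# Killing at minimal primes over a principal ideal
-/

set_option autoImplicit false
universe u

namespace Groth.Agent.H1Fields

/-- A power of a minimal prime over `I` lands, after localising, in `I`. -/
theorem exists_pow_mem_of_minimal {A : Type u} [CommRing A] [IsNoetherianRing A] (I : Ideal A) (P : Ideal A)
    [P.IsPrime] (hP : P ∈ I.minimalPrimes) : ∃ n : ℕ, ∀ s ∈ P ^ n, ∃ t, t ∉ P ∧ t * s ∈ I := by
  obtain ⟨n, hn⟩ := Ideal.exists_pow_le_of_le_radical_of_fg
    (I := P.map (algebraMap A (Localization.AtPrime P))) (J := I.map (algebraMap A (Localization.AtPrime P))) (by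
      rw [Ideal.radical_eq_sInf]
      refine le_sInf fun Q hQ => ?_
      obtain ⟨hIQ, hQp⟩ := hQ
      haveI := hQp
      have hle : Q.comap (algebraMap A (Localization.AtPrime P)) ≤ P := fun x hx => by
        by_contra hxP
        exact hQp.ne_top (Ideal.eq_top_of_isUnit_mem _ hx (IsLocalization.map_units _ (⟨x, hxP⟩ : P.primeCompl)))
      exact Ideal.map_le_iff_le_comap.mpr (hP.2 ⟨hQp.comap _, Ideal.map_le_iff_le_comap.mp hIQ⟩ hle))
    (IsNoetherian.noetherian _)
  refine ⟨n, fun s hs => ?_⟩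
  have hmem : algebraMap A (Localization.AtPrime P) s ∈ I.map (algebraMap A (Localization.AtPrime P)) := by
    refine hn ?_
    rw [← Ideal.map_pow]
    exact Ideal.mem_map_of_mem _ hs
  rw [IsLocalization.algebraMap_mem_map_algebraMap_iff P.primeCompl] at hmem
  obtain ⟨t, ht, htI⟩ := hmem
  exact ⟨t, ht, htI⟩

theorem mem_ker_localized_iff {A : Type u} [CommRing A] (P : Ideal A) [P.IsPrime] {M : Type*} [AddCommGroup M]
    [Module A M] (Q : Submodule A M) (x : M) :
    Submodule.Quotient.mk x ∈ LinearMap.ker (LocalizedModule.mkLinearMap P.primeCompl (M ⧸ Q)) ↔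
      ∃ s, s ∉ P ∧ s • x ∈ Q := by
  rw [LinearMap.mem_ker, IsLocalizedModule.eq_zero_iff (f := LocalizedModule.mkLinearMap P.primeCompl (M ⧸ Q)) P.primeCompl]
  constructor
  · rintro ⟨⟨s, hs⟩, h⟩
    exact ⟨s, hs, (Submodule.Quotient.mk_eq_zero Q).mp h⟩
  · rintro ⟨s, hs, h⟩
    exact ⟨⟨s, hs⟩, (Submodule.Quotient.mk_eq_zero Q).mpr h⟩

end Groth.Agent.H1Fields
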