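import Groth.Agent.PSLib.Basic
import Mathlib

/-!
# Continuous maps from power series to discrete algebras
-/

set_option autoImplicit false
universe u

namespace Groth.Agent.H1Fields

open PSLib

variable {A : Type u} [CommRing A] {n : ℕ} {E : Type u} [CommRing E] [Algebra A E]

theorem ker_constantCoeff_eq_vars :
    RingHom.ker (MvPowerSeries.constantCoeff : MvPowerSeries (Fin n) A →+* A) = vars n A := by
  refine le_antisymm (fun f hf => ?_) ?_
  · have := mem_pow_of_coeff_eq_zero 1 f fun d hd => by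
      rw [(Finsupp.degree_eq_zero_iff d).1 (by omega), MvPowerSeries.coeff_zero_eq_constantCoeff_apply]
      exact hf
    rwa [pow_one] at this
  · rw [vars, Ideal.span_le]
    rintro _ ⟨i, rfl⟩
    exact MvPowerSeries.constantCoeff_X i

theorem isNilpotent_span {z : Fin n → E} (hz : ∀ i, IsNilpotent (z i)) :
    IsNilpotent (Ideal.span (Set.range z)) := by
  refine (Ideal.FG.isNilpotent_iff_le_nilradical (Submodule.fg_span (Set.finite_range z))).2 ?_
  rw [Ideal.span_le]
  rintro _ ⟨i, rfl⟩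
  exact hz i

theorem isAdicComplete_of_isNilpotent {I : Ideal E} (h : IsNilpotent I) : IsAdicComplete I E := by
  obtain ⟨N, hN⟩ := h
  refine
    { toIsHausdorff := ⟨fun x hx => ?_⟩
      toIsPrecomplete := ⟨fun f hf => ⟨f N, fun m => ?_⟩⟩ }
  · have := hx N
    rwa [SModEq.zero, smul_eq_mul, Ideal.mul_top, hN, Ideal.zero_eq_bot, Submodule.mem_bot] at this
  · rcases le_total m N with hm | hm
    · exact hf hm
    · have := hf hm
      rw [SModEq.sub_mem, smul_eq_mul, Ideal.mul_top, hN, Ideal.zero_eq_bot, Submodule.mem_bot, sub_eq_zero] at this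
      rw [this]

/-- A map with nilpotent values at the variables kills a power of the ideal of definition. -/
theorem exists_pow_kill (𝔞 : Ideal A) (hE : ∃ k : ℕ, (𝔞 ^ k).map (algebraMap A E) = ⊥)
    (g : MvPowerSeries (Fin n) A →ₐ[A] E) (hg : ∀ i, IsNilpotent (g (MvPowerSeries.X i))) :
    ∃ m : ℕ, ∀ x ∈ (𝔞.map (MvPowerSeries.C : A →+* MvPowerSeries (Fin n) A) ⊔
      RingHom.ker (MvPowerSeries.constantCoeff : MvPowerSeries (Fin n) A →+* A)) ^ m, g x = 0 := by
  obtain ⟨k, hk⟩ := hE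
  obtain ⟨M, hM⟩ := isNilpotent_span hg
  refine ⟨k + M, fun x hx => ?_⟩
  rw [ker_constantCoeff_eq_vars] at hx
  have h1 := Ideal.sup_pow_add_le_pow_sup_pow hx
  have h2 : (𝔞.map (MvPowerSeries.C : A →+* MvPowerSeries (Fin n) A)) ^ k ⊔ vars n A ^ M ≤ RingHom.ker g.toRingHom := by
    refine sup_le ?_ ?_
    · rw [← Ideal.map_pow, Ideal.map_le_iff_le_comap]
      intro a ha
      show g (MvPowerSeries.C a) = 0
      rw [show (MvPowerSeries.C a : MvPowerSeries (Fin n) A) = algebraMap A _ a from rfl, AlgHom.commutes]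
      have := Ideal.mem_map_of_mem (algebraMap A E) ha
      rwa [hk] at this
    · refine fun y hy => ?_
      have := map_pow_le g (I := Ideal.span (Set.range fun i => g (MvPowerSeries.X i)))
        (fun i => Ideal.subset_span ⟨i, rfl⟩) M (Ideal.mem_map_of_mem _ hy)
      rw [hM, Ideal.zero_eq_bot] at this
      exact this
  exact h2 h1

theorem isNilpotent_of_kill {J : Ideal (MvPowerSeries (Fin n) A)} (hJ : vars n A ≤ J)
    (f : MvPowerSeries (Fin n) A →ₐ[A] E) (hf : ∃ m : ℕ, ∀ x ∈ J ^ m, f x = 0) (i : Fin n) :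
    IsNilpotent (f (MvPowerSeries.X i)) := by
  obtain ⟨m, hm⟩ := hf
  exact ⟨m, by rw [← map_pow]; exact hm _ (Ideal.pow_mem_pow (hJ (Ideal.subset_span ⟨i, rfl⟩)) m)⟩

theorem exists_hom_nilpotent {z : Fin n → E} (hz : ∀ i, IsNilpotent (z i)) :
    ∃ g : MvPowerSeries (Fin n) A →ₐ[A] E, ∀ i, g (MvPowerSeries.X i) = z i := by
  haveI := isAdicComplete_of_isNilpotent (isNilpotent_span hz)
  exact exists_algHom (Ideal.span (Set.range z)) z fun i => Ideal.subset_span ⟨i, rfl⟩

theorem hom_ext_nilpotent (φ ψ : MvPowerSeries (Fin n) A →ₐ[A] E)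
    (hφ : ∀ i, IsNilpotent (φ (MvPowerSeries.X i)))
    (h : ∀ i, φ (MvPowerSeries.X i) = ψ (MvPowerSeries.X i)) : φ = ψ := by
  haveI := isAdicComplete_of_isNilpotent (isNilpotent_span hφ)
  exact algHom_ext (I := Ideal.span (Set.range fun i => φ (MvPowerSeries.X i))) φ ψ
    (fun i => Ideal.subset_span ⟨i, rfl⟩) h

end Groth.Agent.H1Fields
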