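import Groth.Agent.RegLoc6.Pd
import Mathlib

/-!
# Projective dimension modulo a regular element
-/

set_option autoImplicit false
universe u

namespace Groth.Agent.H1Fields

open RegLoc6 TensorProduct

theorem pdLE_quot {A : Type u} [CommRing A] [IsNoetherianRing A] {a : A} (hA : IsSMulRegular A a) :
    ∀ (n : ℕ) (M : Type u) [AddCommGroup M] [Module A M] [Module.Finite A M], IsSMulRegular M a → PdLE A n M →
      PdLE (A ⧸ Ideal.span {a}) n (M ⧸ (Ideal.span {a} • (⊤ : Submodule A M))) := by
  intro n
  induction n with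
  | zero =>
    intro M _ _ _ _ h
    haveI : Module.Projective A M := pdLE_zero_iff.mp h
    refine pdLE_zero_iff.mpr (Module.Projective.of_equiv
      ((TensorProduct.quotTensorEquivQuotSMul M (Ideal.span {a})).extendScalarsOfSurjective Ideal.Quotient.mk_surjective))
  | succ n ih =>
    intro M _ _ _ hM h
    let I := Ideal.span {a}
    obtain ⟨k, g, hg⟩ := exists_presentation (R := A) (M := M)
    have hK : PdLE A n (LinearMap.ker g) := (pdLE_succ_iff g hg).mp h
    have hKr : IsSMulRegular (LinearMap.ker g) a := fun x y hxy =>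
      Subtype.ext (funext fun i => hA (congrFun (congrArg Subtype.val hxy) i))
    have hb := ih (LinearMap.ker g) hKr hK
    have hle : ∀ {X Y : Type u} [AddCommGroup X] [Module A X] [AddCommGroup Y] [Module A Y] (φ : X →ₗ[A] Y),
        I • (⊤ : Submodule A X) ≤ (I • (⊤ : Submodule A Y)).comap φ := fun {X Y} _ _ _ _ φ => by
      rw [← Submodule.map_le_iff_le_comap, Submodule.map_smul'']
      exact Submodule.smul_mono le_rfl le_top
    have hmem : ∀ {X : Type u} [AddCommGroup X] [Module A X] {x : X},
        x ∈ I • (⊤ : Submodule A X) ↔ ∃ y, a • y = x := fun {X} _ _ x => by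
      rw [Submodule.ideal_span_singleton_smul, Submodule.mem_smul_pointwise_iff_exists]
      simp
    let g' : ((Fin k → A) ⧸ (I • (⊤ : Submodule A (Fin k → A)))) →ₗ[A ⧸ I] (M ⧸ (I • (⊤ : Submodule A M))) :=
      (Submodule.mapQ _ _ g (hle g)).extendScalarsOfSurjective Ideal.Quotient.mk_surjective
    have hg' : Function.Surjective g' := fun y => by
      obtain ⟨y, rfl⟩ := Submodule.Quotient.mk_surjective _ y
      obtain ⟨x, rfl⟩ := hg y
      exact ⟨Submodule.Quotient.mk x, rfl⟩
    let ι : ((LinearMap.ker g) ⧸ (I • (⊤ : Submodule A (LinearMap.ker g)))) →ₗ[A ⧸ I] LinearMap.ker g' :=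
      LinearMap.codRestrict _
        ((Submodule.mapQ _ _ (LinearMap.ker g).subtype (hle _)).extendScalarsOfSurjective Ideal.Quotient.mk_surjective)
        fun z => by
          obtain ⟨z, rfl⟩ := Submodule.Quotient.mk_surjective _ z
          show Submodule.Quotient.mk (g z.1) = 0
          rw [show g z.1 = 0 from z.2, Submodule.Quotient.mk_zero]
    have hι : Function.Bijective ι := by
      constructor
      · refine (injective_iff_map_eq_zero ι).mpr fun z hz => ?_
        obtain ⟨z, rfl⟩ := Submodule.Quotient.mk_surjective _ z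
        have hz' : (z : Fin k → A) ∈ I • (⊤ : Submodule A (Fin k → A)) :=
          (Submodule.Quotient.mk_eq_zero _).mp (congrArg Subtype.val hz)
        obtain ⟨y, hy⟩ := hmem.mp hz'
        have hy0 : g y = 0 := hM (show a • g y = a • 0 by rw [← map_smul, hy, smul_zero]; exact z.2)
        exact (Submodule.Quotient.mk_eq_zero _).mpr (hmem.mpr ⟨⟨y, hy0⟩, Subtype.ext hy⟩)
      · rintro ⟨w, hw⟩
        obtain ⟨x, rfl⟩ := Submodule.Quotient.mk_surjective _ w
        have hx : g x ∈ I • (⊤ : Submodule A M) := (Submodule.Quotient.mk_eq_zero _).mp hw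
        obtain ⟨y, hy⟩ := hmem.mp hx
        obtain ⟨y, rfl⟩ := hg y
        refine ⟨Submodule.Quotient.mk ⟨x - a • y, by simp [hy]⟩, Subtype.ext ?_⟩
        show Submodule.Quotient.mk (x - a • y) = Submodule.Quotient.mk x
        rw [Submodule.Quotient.eq]
        exact hmem.mpr ⟨-y, by simp⟩
    haveI : Module.Projective (A ⧸ I) ((Fin k → A) ⧸ (I • (⊤ : Submodule A (Fin k → A)))) :=
      Module.Projective.of_equiv
        ((TensorProduct.quotTensorEquivQuotSMul (Fin k → A) I).extendScalarsOfSurjective Ideal.Quotient.mk_surjective)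
    exact (pdLE_succ_iff g' hg').mpr (pdLE_of_equiv (LinearEquiv.ofBijective ι hι) hb)

end Groth.Agent.H1Fields
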