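import Groth.Prelude.Def_FSRel
import Groth.Agent.AdicFS4.Rel
import Mathlib

/-!
# Relative formal smoothness and extension of derivations
-/

set_option autoImplicit false
universe u

namespace Groth.Agent.H1Fields

attribute [local instance] Exal.opModule Exal.isCentralScalar_opModule

open TensorProduct KaehlerDifferential

theorem exists_derivation_extend_of_rel {Λ A B : Type u} [CommRing Λ] [CommRing A] [CommRing B] [Algebra Λ A]
    [Algebra Λ B] [Algebra A B] [IsScalarTower Λ A B] (h : EGA41.IsFormallySmoothRel Λ A B)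
    (P : Type u) [AddCommGroup P] [Module B P] [Module A P] [IsScalarTower A B P] [Module Λ P]
    [IsScalarTower Λ A P] [IsScalarTower Λ B P] (δ : Derivation Λ A P) :
    ∃ D : Derivation Λ B P, ∀ a, D (algebraMap A B a) = δ a := by
  let T := TrivSqZeroExt B P
  letI : Algebra A T := (Exal.Ext.derivationHom (C := B) δ : A →+* T).toAlgebra
  letI : SMul A T := Algebra.toSMul
  letI : SMul Λ T := (inferInstance : Algebra Λ T).toSMul
  have hAT : ∀ a, algebraMap A T a = TrivSqZeroExt.inl (algebraMap A B a) + TrivSqZeroExt.inr (δ a) :=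
    fun a => rfl
  haveI : IsScalarTower Λ A T := IsScalarTower.of_algebraMap_eq (R := Λ) (S := A) (A := T) fun l => by
    rw [hAT, Derivation.map_algebraMap, TrivSqZeroExt.inr_zero, add_zero, ← IsScalarTower.algebraMap_apply]
    rfl
  let J : Ideal T := RingHom.ker (TrivSqZeroExt.fstHom B B P).toRingHom
  have hJ : ∀ {x : T}, x ∈ J ↔ TrivSqZeroExt.fst x = 0 := fun {x} => Iff.rfl
  have hJ2 : J ^ 2 = ⊥ := by
    rw [eq_bot_iff, pow_two, Ideal.mul_le]
    intro x hx y hy
    rw [Ideal.mem_bot]
    refine TrivSqZeroExt.ext (by rw [TrivSqZeroExt.fst_mul, hJ.mp hx, zero_mul, TrivSqZeroExt.fst_zero]) ?_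
    rw [TrivSqZeroExt.snd_mul, hJ.mp hx, hJ.mp hy, op_smul_eq_smul, zero_smul, zero_smul, add_zero, TrivSqZeroExt.snd_zero]
  let u : B →ₐ[Λ] T := IsScalarTower.toAlgHom Λ B T
  let u₀ : B →ₐ[A] T ⧸ J :=
    { ((Ideal.Quotient.mk J).comp (TrivSqZeroExt.inlHom B P)) with
      commutes' := fun a => by
        show Ideal.Quotient.mk J (TrivSqZeroExt.inl (algebraMap A B a)) = Ideal.Quotient.mk J (algebraMap A T a)
        rw [Ideal.Quotient.eq, hJ, hAT]
        simp only [sub_add_cancel_left, TrivSqZeroExt.fst_neg]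
        exact (neg_eq_zero.mpr (TrivSqZeroExt.fst_inr _ _)) }
  obtain ⟨v, hv⟩ := h T J hJ2 u₀ ⟨u, AlgHom.ext fun b => rfl⟩
  have hfst : ∀ b, TrivSqZeroExt.fst (v b) = b := fun b => by
    have := AlgHom.congr_fun hv b
    change Ideal.Quotient.mk J (v b) = Ideal.Quotient.mk J (TrivSqZeroExt.inl b) at this
    rw [Ideal.Quotient.eq, hJ, TrivSqZeroExt.fst_sub, sub_eq_zero] at this
    exact this.trans (TrivSqZeroExt.fst_inl _ _)
  refine ⟨Derivation.mk'
    { toFun := fun b => TrivSqZeroExt.snd (v b)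
      map_add' := fun x y => by rw [map_add, TrivSqZeroExt.snd_add]
      map_smul' := fun l b => by
        show TrivSqZeroExt.snd (v (l • b)) = l • TrivSqZeroExt.snd (v b)
        rw [← algebraMap_smul A l b, map_smul, Algebra.smul_def (algebraMap Λ A l), hAT, Derivation.map_algebraMap,
          TrivSqZeroExt.inr_zero, add_zero, TrivSqZeroExt.inl_mul_eq_smul, TrivSqZeroExt.snd_smul, algebraMap_smul,
          algebraMap_smul] } fun x y => by
        show TrivSqZeroExt.snd (v (x * y)) = x • TrivSqZeroExt.snd (v y) + y • TrivSqZeroExt.snd (v x)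
        rw [map_mul, TrivSqZeroExt.snd_mul, hfst, hfst, op_smul_eq_smul], fun a => ?_⟩
  show TrivSqZeroExt.snd (v (algebraMap A B a)) = δ a
  rw [AlgHom.commutes, hAT, TrivSqZeroExt.snd_add, TrivSqZeroExt.snd_inl, TrivSqZeroExt.snd_inr, zero_add]

theorem injective_baseChange_of_rel {Λ A B : Type u} [CommRing Λ] [CommRing A] [CommRing B] [Algebra Λ A]
    [Algebra Λ B] [Algebra A B] [IsScalarTower Λ A B] (h : EGA41.IsFormallySmoothRel Λ A B)
    (C : Type u) [CommRing C] [Algebra B C] :
    Function.Injective ((mapBaseChange Λ A B).baseChange C) := by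
  obtain ⟨D₀, hD₀⟩ := exists_derivation_extend_of_rel h (B ⊗[A] Ω[A⁄Λ])
    (((TensorProduct.mk A B Ω[A⁄Λ]) 1).compDer (D Λ A))
  let r : Ω[B⁄Λ] →ₗ[B] B ⊗[A] Ω[A⁄Λ] := D₀.liftKaehlerDifferential
  have hr : r.comp (mapBaseChange Λ A B) = LinearMap.id := by
    refine AlgebraTensorModule.ext fun b ω => ?_
    have hω : ω ∈ Submodule.span A (Set.range (D Λ A)) :=
      (KaehlerDifferential.span_range_derivation Λ A).symm ▸ Submodule.mem_top
    induction hω using Submodule.span_induction generalizing b with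
    | mem w hw =>
      obtain ⟨a, rfl⟩ := hw
      simp [r, hD₀, TensorProduct.smul_tmul']
    | zero => simp
    | add x y _ _ hx hy => rw [tmul_add, map_add, map_add, hx, hy]
    | smul t x _ hx => rw [← smul_tmul, hx]
  have h2 : (r.baseChange C).comp ((mapBaseChange Λ A B).baseChange C) = LinearMap.id := by
    rw [← LinearMap.baseChange_comp, hr, LinearMap.baseChange_id]
  exact Function.LeftInverse.injective (g := r.baseChange C) fun z => LinearMap.congr_fun h2 z

end Groth.Agent.H1Fields
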