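import Mathlib

/-!
# Dimension of modules over semi-local Noetherian rings
-/

set_option autoImplicit false
universe u

namespace Groth.Agent.H1Fields

open Order

theorem exists_nat_ringKrullDim_le (A : Type u) [CommRing A] [IsNoetherianRing A] [Finite (MaximalSpectrum A)] :
    ∃ N : ℕ, ringKrullDim A ≤ N := by
  cases nonempty_fintype (MaximalSpectrum A)
  have h : ∀ m : MaximalSpectrum A, ∃ n : ℕ, m.asIdeal.height ≤ n := fun m => by
    obtain ⟨n, hn⟩ := ENat.ne_top_iff_exists.mp (Ideal.height_ne_top m.isMaximal.ne_top : m.asIdeal.height ≠ ⊤)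
    exact ⟨n, hn.ge⟩
  choose n hn using h
  refine ⟨Finset.univ.sup n, (ringKrullDim_le_iff_isMaximal_height_le _).mpr fun m hm => ?_⟩
  exact WithBot.coe_le_coe.mpr ((hn ⟨m, hm⟩).trans (Nat.cast_le.mpr (Finset.le_sup (f := n) (Finset.mem_univ _))))

theorem supportDim_ne_top (A : Type u) [CommRing A] [IsNoetherianRing A] [Finite (MaximalSpectrum A)]
    (M : Type u) [AddCommGroup M] [Module A M] : Module.supportDim A M ≠ ⊤ := fun h => by
  obtain ⟨N, hN⟩ := exists_nat_ringKrullDim_le A
  have h2 := le_trans (Module.supportDim_le_ringKrullDim A M) hN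
  rw [h, top_le_iff] at h2
  exact ENat.natCast_ne_top N (WithBot.coe_inj.mp h2)

/-- A chain in the support starting at `p` lives over `A / p`. -/
theorem length_le_of_head {A : Type u} [CommRing A] {S : Set (PrimeSpectrum A)} (l : LTSeries S) :
    (l.length : WithBot ℕ∞) ≤ ringKrullDim (A ⧸ l.head.1.asIdeal) := by
  rw [ringKrullDim_quotient]
  let q : LTSeries (PrimeSpectrum.zeroLocus (R := A) (l.head.1.asIdeal : Set A)) :=
    { length := l.length
      toFun := fun i => ⟨(l i).1, l.head_le i⟩
      step := fun i => l.step i }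
  exact LTSeries.length_le_krullDim q

theorem supportDim_quotSMulTop_succ_eq_iff (A : Type u) [CommRing A] [IsNoetherianRing A]
    [Finite (MaximalSpectrum A)] (M : Type u) [AddCommGroup M] [Module A M] [Module.Finite A M] (x : A)
    (hx : x ∈ Ring.jacobson A) :
    Module.supportDim A (QuotSMulTop x M) + 1 = Module.supportDim A M ↔
      ∀ p : PrimeSpectrum A, p ∈ Module.support A M →
        ringKrullDim (A ⧸ p.asIdeal) = Module.supportDim A M → x ∉ p.asIdeal := by
  classical
  rcases subsingleton_or_nontrivial M with hs | hn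
  · haveI : Subsingleton (QuotSMulTop x M) := (Submodule.Quotient.mk_surjective _).subsingleton
    rw [Module.supportDim_eq_bot_of_subsingleton, Module.supportDim_eq_bot_of_subsingleton, WithBot.bot_add]
    refine ⟨fun _ p hp => ?_, fun _ => rfl⟩
    rw [Module.support_eq_empty] at hp
    exact absurd hp (Set.notMem_empty _)
  obtain ⟨d, hd⟩ : ∃ d : ℕ, Module.supportDim A M = d := by
    obtain ⟨d, hd⟩ := WithBot.ne_bot_iff_exists.mp (Module.supportDim_ne_bot_of_nontrivial A M)
    have hdt : d ≠ ⊤ := fun h => supportDim_ne_top A M (by rw [← hd, h]; rfl)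
    obtain ⟨n, rfl⟩ := ENat.ne_top_iff_exists.mp hdt
    exact ⟨n, hd.symm⟩
  have hjac : x ∈ (Module.annihilator A M).jacobson := (Module.annihilator A M).ringJacobson_le_jacobson hx
  have hge := Module.supportDim_le_supportDim_quotSMulTop_succ_of_mem_jacobson hjac (M := M)
  have hsupp : ∀ p, p ∈ Module.support A (QuotSMulTop x M) ↔ p ∈ Module.support A M ∧ x ∈ p.asIdeal := fun p => by
    simp [Module.support_quotSMulTop]
  constructor
  · intro he p hp hpd hxp
    have h1 : ringKrullDim (A ⧸ p.asIdeal) ≤ Module.supportDim A (QuotSMulTop x M) := by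
      rw [ringKrullDim_quotient]
      exact Order.krullDim_le_of_strictMono
        (fun q : PrimeSpectrum.zeroLocus (R := A) (p.asIdeal : Set A) =>
          (⟨q.1, (hsupp q.1).mpr ⟨Module.mem_support_mono (fun a ha => q.2 ha) hp, q.2 hxp⟩⟩ :
            Module.support A (QuotSMulTop x M))) fun a b hab => hab
    rw [hpd, hd] at h1
    have h2 : (d : WithBot ℕ∞) + 1 ≤ d := (add_le_add h1 le_rfl).trans_eq (he.trans hd)
    exact absurd (Nat.cast_le (α := WithBot ℕ∞) (m := d + 1) (n := d) |>.mp (by exact_mod_cast h2)) (by omega)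
  · intro h
    refine le_antisymm ?_ hge
    haveI : Nontrivial (QuotSMulTop x M) := Submodule.Quotient.nontrivial_iff.mpr
      (Submodule.top_ne_pointwise_smul_of_mem_jacobson_annihilator hjac).symm
    haveI : Nonempty (Module.support A (QuotSMulTop x M)) := Module.nonempty_support_of_nontrivial.to_subtype
    have key : ∀ l : LTSeries (Module.support A (QuotSMulTop x M)), l.length + 1 ≤ d := fun l => by
      obtain ⟨hlM, hlx⟩ := (hsupp _).mp l.head.2
      have hzl : ((l.length : ℕ) : WithBot ℕ∞) ≤ ringKrullDim (A ⧸ l.head.1.asIdeal) := length_le_of_head l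
      have hzd : ringKrullDim (A ⧸ l.head.1.asIdeal) ≤ d := by
        rw [ringKrullDim_quotient, ← hd]
        exact Order.krullDim_le_of_strictMono
          (fun q : PrimeSpectrum.zeroLocus (R := A) (l.head.1.asIdeal : Set A) =>
            (⟨q.1, Module.mem_support_mono (fun a ha => q.2 ha) hlM⟩ : Module.support A M)) fun a b hab => hab
      have hne : ringKrullDim (A ⧸ l.head.1.asIdeal) ≠ d := fun he => h _ hlM (he.trans hd.symm) hlx
      haveI := l.head.1.2
      obtain ⟨e, he⟩ := WithBot.ne_bot_iff_exists.mp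
        (fun h0 : ringKrullDim (A ⧸ l.head.1.asIdeal) = ⊥ => by
          have := ringKrullDim_nonneg_of_nontrivial (R := A ⧸ l.head.1.asIdeal)
          rw [h0] at this
          exact absurd this (by simp))
      rw [← he] at hzl hzd hne
      have het : e ≠ ⊤ := fun h0 => by
        rw [h0] at hzd
        exact ENat.natCast_ne_top d (top_le_iff.mp (WithBot.coe_le_coe.mp hzd))
      obtain ⟨e, rfl⟩ := ENat.ne_top_iff_exists.mp het
      have a1 : l.length ≤ e := by exact_mod_cast hzl
      have a2 : e ≤ d := by exact_mod_cast hzd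
      have a3 : e ≠ d := fun hh => hne (by rw [hh]; rfl)
      omega
    have hd1 : 1 ≤ d := le_trans (by omega) (key (RelSeries.singleton _ (Classical.arbitrary _)))
    have hb : Module.supportDim A (QuotSMulTop x M) ≤ ((d - 1 : ℕ) : WithBot ℕ∞) := by
      refine iSup_le fun l => ?_
      exact Nat.cast_le.mpr (by have := key l; omega)
    refine le_trans (add_le_add hb le_rfl) ?_
    rw [hd]
    exact_mod_cast (by omega : d - 1 + 1 ≤ d)

end Groth.Agent.H1Fields
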