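import Mathlib

/-!
# Monic relations in separate variables
-/

set_option autoImplicit false
universe u

namespace Groth.Agent.H1Fields

theorem exists_universal_model {A : Type u} [CommRing A] [Nontrivial A] : ∀ (n : ℕ) (F : Fin n → Polynomial A),
    (∀ i, (F i).Monic) →
    ∃ (B : Type u) (_ : CommRing B) (_ : Algebra A B) (u : Fin n → B) (ι : Type) (_ : Fintype ι) (_ : Module.Basis ι A B),
      Fintype.card ι = ∏ i, (F i).natDegree ∧ (∀ i, Polynomial.aeval (u i) (F i) = 0) ∧
      Algebra.adjoin A (Set.range u) = ⊤ ∧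
      ∀ (C : Type u) [CommRing C] [Algebra A C] (c : Fin n → C), (∀ i, Polynomial.aeval (c i) (F i) = 0) →
        ∃ φ : B →ₐ[A] C, ∀ i, φ (u i) = c i := by
  intro n
  induction n with
  | zero =>
    intro F _
    refine ⟨A, inferInstance, inferInstance, Fin.elim0, Unit, inferInstance, Module.Basis.singleton _ A,
      by simp, fun i => i.elim0, ?_, fun C _ _ c _ => ⟨Algebra.ofId A C, fun i => i.elim0⟩⟩
    exact eq_top_iff.mpr fun x _ => Subalgebra.algebraMap_mem _ x
  | succ n ih =>
    intro F hF
    obtain ⟨B, _, _, u, ι, _, b, hcard, hu, hgen, huniv⟩ := ih (fun i => F i.succ) fun i => hF _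
    let g := (F 0).map (algebraMap A B)
    have hg : g.Monic := (hF 0).map _
    let pb := AdjoinRoot.powerBasis' hg
    refine ⟨AdjoinRoot g, inferInstance, inferInstance,
      Fin.cons (AdjoinRoot.root g) (fun i => algebraMap B _ (u i)), ι × Fin pb.dim, inferInstance,
      b.smulTower pb.basis, ?_, fun i => ?_, ?_, fun C _ _ c hc => ?_⟩
    · rw [Fintype.card_prod, Fintype.card_fin, hcard, Fin.prod_univ_succ, mul_comm ((F 0).natDegree)]
      by_cases h0 : (∏ i : Fin n, (F i.succ).natDegree) = 0
      · rw [h0, zero_mul, zero_mul]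
      · haveI : Nonempty ι := Fintype.card_pos_iff.mp (by rw [hcard]; exact Nat.pos_of_ne_zero h0)
        haveI : Nontrivial B := b.repr.toEquiv.nontrivial
        rw [AdjoinRoot.powerBasis'_dim, (hF 0).natDegree_map]
    · refine Fin.cases ?_ (fun i => ?_) i
      · rw [Fin.cons_zero, ← Polynomial.aeval_map_algebraMap B]
        exact AdjoinRoot.eval₂_root g
      · rw [Fin.cons_succ, Polynomial.aeval_algebraMap_apply, hu, map_zero]
    · rw [eq_top_iff]
      intro x _
      set S := Algebra.adjoin A (Set.range (Fin.cons (AdjoinRoot.root g) (fun i => algebraMap B (AdjoinRoot g) (u i)) :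
        Fin (n + 1) → AdjoinRoot g)) with hS
      have h0 : AdjoinRoot.root g ∈ S := Algebra.subset_adjoin ⟨0, rfl⟩
      have hB : ∀ a : B, algebraMap B (AdjoinRoot g) a ∈ S := fun a => by
        have ha : a ∈ Algebra.adjoin A (Set.range u) := by rw [hgen]; trivial
        induction ha using Algebra.adjoin_induction with
        | mem y hy => obtain ⟨i, rfl⟩ := hy; exact Algebra.subset_adjoin ⟨i.succ, by rw [Fin.cons_succ]⟩
        | algebraMap r => rw [← IsScalarTower.algebraMap_apply]; exact Subalgebra.algebraMap_mem _ r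
        | add y z _ _ hy hz => rw [map_add]; exact add_mem hy hz
        | mul y z _ _ hy hz => rw [map_mul]; exact mul_mem hy hz
      have hall : ∀ q : Polynomial B, AdjoinRoot.mk g q ∈ S := fun q => by
        induction q using Polynomial.induction_on' with
        | add p q hp hq => rw [map_add]; exact add_mem hp hq
        | monomial m a =>
          rw [← Polynomial.C_mul_X_pow_eq_monomial, map_mul, map_pow, AdjoinRoot.mk_X, AdjoinRoot.mk_C]
          exact mul_mem (hB a) (pow_mem h0 m)
      obtain ⟨q, rfl⟩ := AdjoinRoot.mk_surjective x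
      exact hall q
    · obtain ⟨φ, hφ⟩ := huniv C (fun i => c i.succ) fun i => hc _
      let ψ : AdjoinRoot g →+* C := AdjoinRoot.lift φ.toRingHom (c 0) (by
        rw [Polynomial.eval₂_map, AlgHom.toRingHom_eq_coe, AlgHom.comp_algebraMap]
        exact hc 0)
      refine ⟨{ ψ with commutes' := fun a => ?_ }, fun i => ?_⟩
      · show ψ (algebraMap A (AdjoinRoot g) a) = _
        rw [IsScalarTower.algebraMap_apply A B (AdjoinRoot g), AdjoinRoot.algebraMap_eq, AdjoinRoot.lift_of]
        exact φ.commutes a
      · refine Fin.cases ?_ (fun i => ?_) i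
        · show ψ (AdjoinRoot.root g) = c 0
          simp [ψ]
        · show ψ (algebraMap B (AdjoinRoot g) (u i)) = _
          rw [AdjoinRoot.algebraMap_eq, AdjoinRoot.lift_of]
          exact hφ i

end Groth.Agent.H1Fields
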