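import Mathlib

/-!
# Local flatness criterion for a square-zero ideal
-/

set_option autoImplicit false
universe u v

namespace Groth.Agent.H1Fields

open TensorProduct

theorem rTensor_injective_of_killed {A : Type u} [CommRing A] (I : Ideal A) {M : Type v} [AddCommGroup M]
    [Module A M] [Module.Flat (A ⧸ I) ((A ⧸ I) ⊗[A] M)] {K F : Type u} [AddCommGroup K] [Module A K]
    [AddCommGroup F] [Module A F] [Module (A ⧸ I) K] [IsScalarTower A (A ⧸ I) K] [Module (A ⧸ I) F]
    [IsScalarTower A (A ⧸ I) F] (f : K →ₗ[A] F) (hf : Function.Injective f) :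
    Function.Injective (f.rTensor M) := by
  let f' : K →ₗ[A ⧸ I] F := f.extendScalarsOfSurjective Ideal.Quotient.mk_surjective
  let eK := TensorProduct.AlgebraTensorModule.cancelBaseChange A (A ⧸ I) (A ⧸ I) K M
  let eF := TensorProduct.AlgebraTensorModule.cancelBaseChange A (A ⧸ I) (A ⧸ I) F M
  have h : Function.Injective (f'.rTensor ((A ⧸ I) ⊗[A] M)) :=
    Module.Flat.rTensor_preserves_injective_linearMap f' hf
  have hsq : ∀ z, f.rTensor M (eK z) = eF (f'.rTensor _ z) := fun z => by
    induction z using TensorProduct.induction_on with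
    | zero => simp
    | add x y hx hy => simp only [map_add, hx, hy]
    | tmul k w =>
      induction w using TensorProduct.induction_on with
      | zero => simp
      | add x y hx hy => simp only [tmul_add, map_add, hx, hy]
      | tmul c m =>
        obtain ⟨a, rfl⟩ := Ideal.Quotient.mk_surjective c
        simp [eK, eF, f', LinearMap.extendScalarsOfSurjective]
        rw [← Ideal.Quotient.algebraMap_eq, algebraMap_smul, algebraMap_smul, map_smul]
  intro x y hxy
  obtain ⟨x', rfl⟩ := eK.surjective x
  obtain ⟨y', rfl⟩ := eK.surjective y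
  rw [hsq, hsq] at hxy
  exact congrArg eK (h (eF.injective hxy))

/-- Flatness from flatness modulo a square-zero ideal `I` and injectivity of `I ⊗ M → M`. -/
theorem flat_of_sq_zero {A : Type u} [CommRing A] (I : Ideal A) (hI : I ^ 2 = ⊥) {M : Type v} [AddCommGroup M]
    [Module A M] [Module.Flat (A ⧸ I) ((A ⧸ I) ⊗[A] M)]
    (h2 : Function.Injective (I.subtype.rTensor M)) : Module.Flat A M := by
  rw [Module.Flat.iff_rTensor_injective']
  intro J
  let q : ↥J →ₗ[A] A ⧸ I := (I.mkQ).comp J.subtype
  let K : Submodule A ↥J := LinearMap.ker q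
  refine (injective_iff_map_eq_zero _).mpr fun x hx => ?_
  -- modulo `I`
  have hkill : ∀ (a : A) (z : ↥J ⧸ K), a ∈ I → a • z = 0 := fun a z ha => by
    obtain ⟨j, rfl⟩ := Submodule.Quotient.mk_surjective K z
    rw [← Submodule.Quotient.mk_smul, Submodule.Quotient.mk_eq_zero, LinearMap.mem_ker]
    show Submodule.Quotient.mk (a * (j : A)) = 0
    rw [Submodule.Quotient.mk_eq_zero]
    exact I.mul_mem_right _ ha
  letI : Module (A ⧸ I) (↥J ⧸ K) := Module.IsTorsionBySet.module (fun z a => hkill a z a.2)
  haveI : IsScalarTower A (A ⧸ I) (↥J ⧸ K) := Module.IsTorsionBySet.isScalarTower _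
  have hq : Function.Injective (K.liftQ q le_rfl) := by
    rw [← LinearMap.ker_eq_bot]
    exact Submodule.ker_liftQ_eq_bot _ _ _ le_rfl
  have h0 : K.mkQ.rTensor M x = 0 := by
    refine rTensor_injective_of_killed I (K.liftQ q le_rfl) hq ?_
    rw [map_zero, ← LinearMap.rTensor_comp_apply, Submodule.liftQ_mkQ,
      show q = (I.mkQ).comp J.subtype from rfl, LinearMap.rTensor_comp_apply, hx, map_zero]
  obtain ⟨y, hy⟩ := (rTensor_exact M (LinearMap.exact_subtype_mkQ K) (Submodule.mkQ_surjective K) x).mp h0
  subst hy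
  have hmem : ∀ z : ↥K, ((z : ↥J) : A) ∈ I := fun z => by
    have := LinearMap.mem_ker.mp z.2
    exact (Submodule.Quotient.mk_eq_zero I).mp this
  let g : ↥K →ₗ[A] ↥I := LinearMap.codRestrict I (J.subtype.comp K.subtype) hmem
  have hII : ∀ {a b : A}, a ∈ I → b ∈ I → a * b = 0 := fun {a b} ha hb => by
    have : a * b ∈ I ^ 2 := by rw [pow_two]; exact Ideal.mul_mem_mul ha hb
    simpa [hI] using this
  letI : Module (A ⧸ I) ↥K := Module.IsTorsionBySet.module (fun z a => Subtype.ext (Subtype.ext (hII a.2 (hmem z))))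
  haveI : IsScalarTower A (A ⧸ I) ↥K := Module.IsTorsionBySet.isScalarTower _
  letI : Module (A ⧸ I) ↥I := Module.IsTorsionBySet.module (fun z a => Subtype.ext (hII a.2 z.2))
  haveI : IsScalarTower A (A ⧸ I) ↥I := Module.IsTorsionBySet.isScalarTower _
  have hg : Function.Injective g := fun a b h => Subtype.ext (Subtype.ext (congrArg (fun w : ↥I => (w : A)) h))
  have hy0 : y = 0 := by
    refine rTensor_injective_of_killed I g hg (h2 ?_)
    rw [← LinearMap.rTensor_comp_apply, map_zero, map_zero,
      show I.subtype.comp g = J.subtype.comp K.subtype from rfl, LinearMap.rTensor_comp_apply, hx]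
  rw [hy0, map_zero]

end Groth.Agent.H1Fields
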